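import Groth.Agent.QCPush13.Geom
import Groth.Agent.AlgSpPts.Sep
import Groth.Agent.AlgSpPts.SepDescent
import Groth.Agent.AlgSpDec.DecentMor
import Groth.Agent.QCart13.Abelian

/-!
# Direct images along quasi-compact quasi-separated representable maps preserve quasi-coherence
-/

set_option autoImplicit false
set_option backward.isDefEq.respectTransparency false
set_option backward.isDefEq.respectTransparency.types false

noncomputable section

universe u

open CategoryTheory CategoryTheory.Limits AlgebraicGeometry Opposite AlgSp TensorProduct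
open Groth.Agent.QCart13

namespace Groth.Agent.QCPush13

variable {S : Scheme.{u}} {Z X : Sp S} {f : Z ⟶ X} {hrep : Representable f} (F : ModEt Z)

/-- Restriction between objects over a base change. -/
def rS {V : EtOver X} {T U : Over ((EtOver.bc hrep).obj V)} (h : U ⟶ T) :
    Sec F T.left (piT T) →ₗ[Fn V] Sec F U.left (piT U) :=
  qS F (piT T) (piT U) h.left (fun a => piT_over h a)

theorem qT_rS {V : EtOver X} (W₀ : Over V) {T U : Over ((EtOver.bc hrep).obj V)} (h : U ⟶ T)
    (y : Sec F T.left (piT T)) : rS F (pbMap W₀ h) (qT W₀ F T y) = qT W₀ F U (rS F h y) := by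
  change res F (pbMap W₀ h).left (res F (pbSnd W₀ T) y.val) = res F (pbSnd W₀ U) (res F h.left y.val)
  rw [← res_comp, ← res_comp, pbMap_snd]

theorem rS_rG {V : EtOver X} {T U : Over ((EtOver.bc hrep).obj V)} (h : U ⟶ T)
    (x : sectModEt ((pushModEt hrep).obj F) V) : rS F h (rG F T x) = rG F U x := by
  change res F h.left (res F T.hom (show sectModEt F ((EtOver.bc hrep).obj V) from x)) =
    res F U.hom (show sectModEt F ((EtOver.bc hrep).obj V) from x)
  rw [← res_comp, Over.w h]

theorem rG_qT {V : EtOver X} (W₀ : Over V) (T : Over ((EtOver.bc hrep).obj V))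
    (x : sectModEt ((pushModEt hrep).obj F) V) :
    rG F (pb W₀ T) (res₀ ((pushModEt hrep).obj F) W₀ x) = qT W₀ F T (rG F T x) := by
  change res F (pb W₀ T).hom (res F ((EtOver.bc hrep).map W₀.hom) (show sectModEt F ((EtOver.bc hrep).obj V) from x)) =
    res F (pbSnd W₀ T) (res F T.hom (show sectModEt F ((EtOver.bc hrep).obj V) from x))
  rw [← res_comp, ← res_comp, (isPullback_pb W₀ T).w]

theorem eq_zero_of_surj {P : EtOver Z} {κ : Type} (T : κ → Over P)
    (hT : ∀ x : ↥P.obj.left.left, ∃ i, x ∈ Set.range (T i).hom.hom.left.left) (x : sectModEt F P)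
    (h : ∀ i, res F (T i).hom x = 0) : x = 0 := by
  refine Gen.eq_zero_of_local F x (AlgSpDec.ofArrows_mem_etTop _ _ hT) fun Y g hg => ?_
  obtain ⟨i, k, rfl⟩ := (Sieve.mem_ofArrows_iff _ _ _).1 hg
  change res F (k ≫ (T i).hom) x = 0
  rw [res_comp, h i, map_zero]

theorem res_eqToHom {ι : Type} (W : ι → EtOver Z) (y : ∀ i, sectModEt F (W i)) {i j : ι} (h : i = j) :
    res F (eqToHom (congrArg W h)) (y j) = y i := by
  subst h
  exact res_id F _ _

theorem exists_glue {V : EtOver X} (c : DCov hrep V) (y : ∀ i, sectModEt F (c.T i).left)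
    (hy : ∀ k, res F (c.u₁ k).left (y (c.i₁ k)) = res F (c.u₂ k).left (y (c.i₂ k))) :
    ∃ x : sectModEt F ((EtOver.bc hrep).obj V), ∀ i, res F (c.T i).hom x = y i := by
  have hs := (Presieve.isSheafFor_iff_generate _).2 ((isSheaf_iff_isSheaf_of_type _ _).1
    ((Presheaf.isSheaf_iff_isSheaf_forget (etTop Z) F.val.presheaf (CategoryTheory.forget AddCommGrpCat.{u + 1})).1
      F.isSheaf) _ (AlgSpDec.ofArrows_mem_etTop _ _ c.surj))
  obtain ⟨t, ht, -⟩ := (Presieve.isSheafFor_arrows_iff _ _).1 hs y fun i j Y a b hab => by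
    change res F a (y i) = res F b (y j)
    obtain ⟨R, hR, hR'⟩ := c.surj₂ i j Y a b hab
    refine sub_eq_zero.1 (Gen.eq_zero_of_local F _ hR fun Y' g hg => ?_)
    obtain ⟨k, e, h₁, h₂, e₁, e₂⟩ := hR' Y' g hg
    subst h₁ h₂
    rw [eqToHom_refl, Category.comp_id] at e₁ e₂
    change res F g (res F a (y _) - res F b (y _)) = 0
    rw [map_sub, ← res_comp, ← res_comp, ← e₁, ← e₂, res_comp, res_comp, hy k, sub_self]
  exact ⟨t, ht⟩

theorem cart_push {V : EtOver X} (hV : Aff V) (c : DCov hrep V) (hF : ∀ W : EtOver Z, Aff W → Cart F W) :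
    Cart ((pushModEt hrep).obj F) V := by
  intro E' g hE'
  let W₀ : Over V := Over.mk g
  refine (isBC_iff _ W₀).2 ?_
  haveI : Module.Flat (Fn V) (Fn W₀.left) := flat_over hV hE'
  refine isBaseChange_of_cover (res₀ ((pushModEt hrep).obj F) W₀)
    (fun i => rG F (c.T i)) (fun i => rG F (pb W₀ (c.T i))) (fun x hx => ?_) (fun x hx => ?_)
    (fun i => qT W₀ F (c.T i)) (fun i => isBaseChange_qT W₀ F hV hE' (c.affT i) (hF _ (c.affT i)))
    (fun k => qT W₀ F (c.U k))
    (fun k => ((isBaseChange_iff_bijective _).1 (isBaseChange_qT W₀ F hV hE' (c.affU k) (hF _ (c.affU k)))).1)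
    (fun i x => rG_qT F W₀ (c.T i) x)
    (fun k => rS F (c.u₁ k) ∘ₗ LinearMap.proj (c.i₁ k) - rS F (c.u₂ k) ∘ₗ LinearMap.proj (c.i₂ k))
    (fun y hy => ?_) (fun x k => ?_)
    (fun k => rS F (pbMap W₀ (c.u₁ k)) ∘ₗ LinearMap.proj (c.i₁ k) -
      rS F (pbMap W₀ (c.u₂ k)) ∘ₗ LinearMap.proj (c.i₂ k))
    (fun y k => ?_) (fun y k => ?_)
  · exact eq_zero_of_surj F c.T c.surj _ hx
  · exact eq_zero_of_surj F (fun i => pb W₀ (c.T i)) (surj_pb W₀ c.T c.surj) _ hx
  · exact exists_glue F c y fun k => sub_eq_zero.1 (hy k)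
  · simp only [LinearMap.sub_apply, LinearMap.comp_apply, LinearMap.proj_apply, rS_rG, sub_self]
  · simp only [LinearMap.sub_apply, LinearMap.comp_apply, LinearMap.proj_apply, qT_rS, map_sub]
  · simp only [LinearMap.sub_apply, LinearMap.comp_apply, LinearMap.proj_apply, rS_rG, sub_self]

theorem compact_and_qs (hqc : IsQuasiCompactMor f) (hqs : IsQuasiSeparatedMor f) (hrep : Representable f)
    (V : EtOver X) (hV : Aff V) :
    CompactSpace ↥((EtOver.bc hrep).obj V).obj.left.left ∧
      QuasiSeparatedSpace ↥((EtOver.bc hrep).obj V).obj.left.left := by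
  haveI : IsAffine V.obj.left.left := hV
  haveI h1 : QuasiCompact (EtOver.bcπ hrep V).left :=
    (AlgSpPts.repWith_quasiCompact hrep hqc).property_snd V.obj.hom
  haveI h2 : QuasiSeparated (EtOver.bcπ hrep V).left := (isQuasiSeparatedMor_yon_map_iff _).1
    (AlgSpPts.isQuasiSeparatedMor_of_isPullback (hrep.isPullback V.obj.hom) hqs)
  exact ⟨QuasiCompact.compactSpace_of_compactSpace (EtOver.bcπ hrep V).left,
    quasiSeparatedSpace_of_quasiSeparated (EtOver.bcπ hrep V).left⟩

theorem isQuasicoherent_push (hqc : IsQuasiCompactMor f) (hqs : IsQuasiSeparatedMor f) (hrep : Representable f)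
    [F.IsQuasicoherent] : ((pushModEt hrep).obj F).IsQuasicoherent :=
  isQuasicoherent_of_cart _ fun V hV => by
    obtain ⟨h1, h2⟩ := compact_and_qs hqc hqs hrep V hV
    obtain ⟨c⟩ := nonempty_dcov (hrep := hrep) (V := V)
    exact cart_push F hV c fun W hW => cart_of_isQuasicoherent F hW

end Groth.Agent.QCPush13

end
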