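import Groth.Agent.QCPush13.Sec
import Groth.Agent.PushImage13.Base
import Mathlib.AlgebraicGeometry.Morphisms.QuasiSeparated

/-!
# Affine objects over the base change of an affine object
-/

set_option autoImplicit false
set_option backward.isDefEq.respectTransparency false
set_option backward.isDefEq.respectTransparency.types false

noncomputable section

universe u

open CategoryTheory CategoryTheory.Limits AlgebraicGeometry Opposite AlgSp TensorProduct
open Groth.Agent.QCart13

namespace Groth.Agent.QCPush13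

variable {S : Scheme.{u}} {Z X : Sp S} {f : Z ⟶ X} {hrep : Representable f}

/-- Pullback of functions from below to an object over a base change. -/
def piT {V : EtOver X} (T : Over ((EtOver.bc hrep).obj V)) : Fn V →+* Fn T.left :=
  (rmap T.hom).comp (PushImage13.π hrep V)

theorem piT_over {V : EtOver X} {T U : Over ((EtOver.bc hrep).obj V)} (h : U ⟶ T) (a : Fn V) :
    rmap h.left (piT T a) = piT U a := by
  change rmap h.left (rmap T.hom (PushImage13.π hrep V a)) = rmap U.hom (PushImage13.π hrep V a)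
  rw [← rmap_comp, Over.w h]

variable {V : EtOver X} (W₀ : Over V)

/-- The pullback to the base change of an object over the one below. -/
def pb (T : Over ((EtOver.bc hrep).obj V)) : Over ((EtOver.bc hrep).obj W₀.left) :=
  Over.mk (EtOver.pullbackFst ((EtOver.bc hrep).map W₀.hom) T.hom)

/-- Its projection. -/
def pbSnd (T : Over ((EtOver.bc hrep).obj V)) : (pb W₀ T).left ⟶ T.left :=
  EtOver.pullbackSnd ((EtOver.bc hrep).map W₀.hom) T.hom

theorem isPullback_pb (T : Over ((EtOver.bc hrep).obj V)) :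
    IsPullback (pb W₀ T).hom (pbSnd W₀ T) ((EtOver.bc hrep).map W₀.hom) T.hom :=
  EtOver.isPullback _ _

theorem exists_pbMap {T U : Over ((EtOver.bc hrep).obj V)} (h : U ⟶ T) :
    ∃ k : pb W₀ U ⟶ pb W₀ T, k.left ≫ pbSnd W₀ T = pbSnd W₀ U ≫ h.left := by
  have sq := isPullback_pb W₀ T
  have e : (pb W₀ U).hom ≫ (EtOver.bc hrep).map W₀.hom = (pbSnd W₀ U ≫ h.left) ≫ T.hom := by
    rw [Category.assoc, Over.w h]
    exact (isPullback_pb W₀ U).w
  exact ⟨Over.homMk (sq.lift _ _ e) (sq.lift_fst _ _ e), sq.lift_snd _ _ e⟩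

/-- Its functoriality. -/
def pbMap {T U : Over ((EtOver.bc hrep).obj V)} (h : U ⟶ T) : pb W₀ U ⟶ pb W₀ T := (exists_pbMap W₀ h).choose

theorem pbMap_snd {T U : Over ((EtOver.bc hrep).obj V)} (h : U ⟶ T) :
    (pbMap W₀ h).left ≫ pbSnd W₀ T = pbSnd W₀ U ≫ h.left :=
  (exists_pbMap W₀ h).choose_spec

theorem isPullback_pb_scheme (T : Over ((EtOver.bc hrep).obj V)) :
    IsPullback ((pb W₀ T).hom.hom.left.left ≫ (EtOver.bcπ hrep W₀.left).left) (pbSnd W₀ T).hom.left.left
      W₀.hom.hom.left.left (T.hom.hom.left.left ≫ (EtOver.bcπ hrep V).left) :=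
  (((isPullback_pb W₀ T).map (EtOver.toScheme Z)).flip.paste_vert
    (EtOver.isPullback_bcMap_left hrep W₀.hom)).flip

theorem piT_pb (T : Over ((EtOver.bc hrep).obj V)) (a : Fn V) :
    rmap (pbSnd W₀ T) (piT T a) = piT (pb W₀ T) (rmap W₀.hom a) :=
  (congrArg (fun k : (pb W₀ T).left.obj.left.left ⟶ V.obj.left.left => k.appTop a) (isPullback_pb_scheme W₀ T).w).symm

theorem surj_pb {κ : Type*} (T : κ → Over ((EtOver.bc hrep).obj V))
    (hT : ∀ x : ↥((EtOver.bc hrep).obj V).obj.left.left, ∃ i, x ∈ Set.range (T i).hom.hom.left.left)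
    (x : ↥((EtOver.bc hrep).obj W₀.left).obj.left.left) :
    ∃ i, x ∈ Set.range (pb W₀ (T i)).hom.hom.left.left := by
  obtain ⟨i, w, hw⟩ := hT (((EtOver.bc hrep).map W₀.hom).hom.left.left x)
  obtain ⟨z, hz, -⟩ := Scheme.exists_preimage_of_isPullback ((isPullback_pb W₀ (T i)).map (EtOver.toScheme Z))
    x w hw.symm
  exact ⟨i, z, hz⟩

theorem aff_pb (hV : Aff V) (hW : Aff W₀.left) {T : Over ((EtOver.bc hrep).obj V)} (hT : Aff T.left) :
    Aff (pb W₀ T).left := by
  have : IsAffine V.obj.left.left := hV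
  have : IsAffine W₀.left.obj.left.left := hW
  have : IsAffine T.left.obj.left.left := hT
  exact IsAffine.of_isPullback (isPullback_pb_scheme W₀ T)

variable (F : ModEt Z)

/-- Restriction to a pullback. -/
def qT (T : Over ((EtOver.bc hrep).obj V)) : Sec F T.left (piT T) →ₗ[Fn V] Sec F (pb W₀ T).left (piT (pb W₀ T)) :=
  qS F (piT T) (piT (pb W₀ T)) (pbSnd W₀ T) (piT_pb W₀ T)

theorem isBaseChange_qT (hV : Aff V) (hW : Aff W₀.left) {T : Over ((EtOver.bc hrep).obj V)} (hT : Aff T.left)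
    (hF : Cart F T.left) : IsBaseChange (Fn W₀.left) (qT W₀ F T) := by
  refine isBaseChange_qS F _ _ _ _ ?_ (hF _ _ (aff_pb W₀ hV hW hT))
  have : IsAffine V.obj.left.left := hV
  have : IsAffine W₀.left.obj.left.left := hW
  have : IsAffine T.left.obj.left.left := hT
  exact isPushout_appTop_of_isPullback (isPullback_pb_scheme W₀ T)

theorem push_smul {V : EtOver X} (a : Fn V) (x : sectModEt ((pushModEt hrep).obj F) V) :
    (show sectModEt F ((EtOver.bc hrep).obj V) from a • x) =
      PushImage13.π hrep V a • (show sectModEt F ((EtOver.bc hrep).obj V) from x) := rfl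

/-- Sections of the direct image restricted to an object over a base change. -/
def rG {V : EtOver X} (T : Over ((EtOver.bc hrep).obj V)) :
    sectModEt ((pushModEt hrep).obj F) V →ₗ[Fn V] Sec F T.left (piT T) where
  toFun x := Sec.of F (piT T) (res F T.hom x)
  map_add' x y := map_add (res F T.hom) (x : sectModEt F ((EtOver.bc hrep).obj V)) y
  map_smul' a x := by
    change res F T.hom (show sectModEt F ((EtOver.bc hrep).obj V) from a • x) = piT T a • res F T.hom x
    rw [push_smul, res_smul]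
    rfl

/-- A finite covering with affine overlaps coverings of the base change. -/
structure DCov (hrep : Representable f) (V : EtOver X) where
  n : ℕ
  m : ℕ
  T : Fin n → Over ((EtOver.bc hrep).obj V)
  U : Fin m → Over ((EtOver.bc hrep).obj V)
  i₁ : Fin m → Fin n
  i₂ : Fin m → Fin n
  u₁ : ∀ k, U k ⟶ T (i₁ k)
  u₂ : ∀ k, U k ⟶ T (i₂ k)
  affT : ∀ i, Aff (T i).left
  affU : ∀ k, Aff (U k).left
  surj : ∀ x : ↥((EtOver.bc hrep).obj V).obj.left.left, ∃ i, x ∈ Set.range (T i).hom.hom.left.left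
  surj₂ : ∀ (i j : Fin n) (Y : EtOver Z) (a : Y ⟶ (T i).left) (b : Y ⟶ (T j).left),
    a ≫ (T i).hom = b ≫ (T j).hom → ∃ R ∈ etTop Z Y, ∀ (Y' : EtOver Z) (c : Y' ⟶ Y), R c →
      ∃ (k : Fin m) (e : Y' ⟶ (U k).left) (h₁ : i₁ k = i) (h₂ : i₂ k = j),
        e ≫ (u₁ k).left ≫ eqToHom (congrArg (fun l => (T l).left) h₁) = c ≫ a ∧
        e ≫ (u₂ k).left ≫ eqToHom (congrArg (fun l => (T l).left) h₂) = c ≫ b

theorem exists_affine_cover (P : EtOver Z) [CompactSpace ↥P.obj.left.left] :
    ∃ (n : ℕ) (T : Fin n → Over P), (∀ i, Aff (T i).left) ∧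
      ∀ x : ↥P.obj.left.left, ∃ i, x ∈ Set.range (T i).hom.hom.left.left := by
  choose W j hW hj using exists_aff_open P
  obtain ⟨s, hs⟩ := IsCompact.elim_finite_subcover (CompactSpace.isCompact_univ (X := ↥P.obj.left.left))
    (fun x => Set.range (j x).hom.left.left) (fun x => (isOpenMap_left (j x)).isOpen_range)
    (fun x _ => Set.mem_iUnion.2 ⟨x, hj x⟩)
  refine ⟨s.card, fun i => Over.mk (j (s.equivFin.symm i)), fun i => hW _, fun x => ?_⟩
  obtain ⟨z, hz, hxz⟩ := Set.mem_iUnion₂.1 (hs (Set.mem_univ x))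
  refine ⟨s.equivFin ⟨z, hz⟩, ?_⟩
  change x ∈ Set.range (j (s.equivFin.symm (s.equivFin ⟨z, hz⟩)).1).hom.left.left
  rw [Equiv.symm_apply_apply]
  exact hxz

theorem nonempty_dcov {V : EtOver X} [CompactSpace ↥((EtOver.bc hrep).obj V).obj.left.left]
    [QuasiSeparatedSpace ↥((EtOver.bc hrep).obj V).obj.left.left] : Nonempty (DCov hrep V) := by
  obtain ⟨n, T, hT, hsurj⟩ := exists_affine_cover ((EtOver.bc hrep).obj V)
  have hW : ∀ p : Fin n × Fin n, CompactSpace ↥(bx (T p.1) (T p.2)).left.obj.left.left := by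
    intro p
    have : IsAffine (T p.1).left.obj.left.left := hT _
    have : IsAffine (T p.2).left.obj.left.left := hT _
    have : QuasiCompact (T p.2).hom.hom.left.left := inferInstance
    have : QuasiCompact (bxFst (T p.1) (T p.2)).left.hom.left.left :=
      MorphismProperty.of_isPullback (isPullback_bx_scheme (T p.1) (T p.2)).flip this
    exact QuasiCompact.compactSpace_of_compactSpace (bxFst (T p.1) (T p.2)).left.hom.left.left
  choose mm U hU hUs using fun p => haveI := hW p; exists_affine_cover (bx (T p.1) (T p.2)).left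
  let e := (Fintype.equivFin (Σ p : Fin n × Fin n, Fin (mm p))).symm
  refine ⟨{ n := n, m := _, T := T
            U := fun k => Over.mk ((U (e k).1 (e k).2).hom ≫ (bx (T (e k).1.1) (T (e k).1.2)).hom)
            i₁ := fun k => (e k).1.1, i₂ := fun k => (e k).1.2
            u₁ := fun k => Over.homMk ((U (e k).1 (e k).2).hom ≫ (bxFst _ _).left)
              (by rw [Category.assoc, Over.w]; rfl)
            u₂ := fun k => Over.homMk ((U (e k).1 (e k).2).hom ≫ (bxSnd _ _).left)
              (by rw [Category.assoc, Over.w]; rfl)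
            affT := hT, affU := fun k => hU _ _, surj := hsurj
            surj₂ := ?_ }⟩
  intro i j Y a b hab
  let l : Y ⟶ (bx (T i) (T j)).left := (isPullback_bx (T i) (T j)).lift a b hab
  refine ⟨_, (etTop Z).pullback_stable l (AlgSpDec.ofArrows_mem_etTop
    (fun q : Fin (mm (i, j)) => (U (i, j) q).left) (fun q => (U (i, j) q).hom) (hUs (i, j))), fun Y' c hc => ?_⟩
  obtain ⟨q, k, hk⟩ := (Sieve.mem_ofArrows_iff _ _ _).1 hc
  obtain ⟨k', hk'⟩ := e.surjective ⟨(i, j), q⟩
  have key : ∀ s : (Σ p : Fin n × Fin n, Fin (mm p)), s = ⟨(i, j), q⟩ → ∃ (e' : Y' ⟶ (U s.1 s.2).left)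
      (h₁ : s.1.1 = i) (h₂ : s.1.2 = j),
      (e' ≫ ((U s.1 s.2).hom ≫ (bxFst (T s.1.1) (T s.1.2)).left)) ≫ eqToHom (congrArg (fun l => (T l).left) h₁) = c ≫ a ∧
      (e' ≫ ((U s.1 s.2).hom ≫ (bxSnd (T s.1.1) (T s.1.2)).left)) ≫ eqToHom (congrArg (fun l => (T l).left) h₂) = c ≫ b := by
    rintro _ rfl
    refine ⟨k, rfl, rfl, ?_, ?_⟩
    · rw [eqToHom_refl, Category.comp_id, ← Category.assoc, ← hk, Category.assoc]
      exact congrArg (c ≫ ·) ((isPullback_bx (T i) (T j)).lift_fst a b hab)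
    · rw [eqToHom_refl, Category.comp_id, ← Category.assoc, ← hk, Category.assoc]
      exact congrArg (c ≫ ·) ((isPullback_bx (T i) (T j)).lift_snd a b hab)
  obtain ⟨e', h₁, h₂, H₁, H₂⟩ := key _ hk'
  exact ⟨k', e', h₁, h₂, (Category.assoc _ _ _).symm.trans H₁, (Category.assoc _ _ _).symm.trans H₂⟩

end Groth.Agent.QCPush13

end
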