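import Groth.Agent.QCart13.Alg

/-!
# Flat base change of an equalizer over a finite covering
-/

set_option autoImplicit false

noncomputable section

universe u w

open TensorProduct

namespace Groth.Agent.QCPush13

open Groth.Agent.QCart13

variable {A : Type u} [CommRing A] {B : Type u} [CommRing B] [Algebra A B] [Module.Flat A B]
  {ι κ : Type} [Finite ι] [Finite κ]
  {M : Type w} [AddCommGroup M] [Module A M]
  {M' : Type w} [AddCommGroup M'] [Module A M'] [Module B M'] [IsScalarTower A B M']
  {Ml : ι → Type w} [∀ i, AddCommGroup (Ml i)] [∀ i, Module A (Ml i)]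
  {M'l : ι → Type w} [∀ i, AddCommGroup (M'l i)] [∀ i, Module A (M'l i)] [∀ i, Module B (M'l i)]
  [∀ i, IsScalarTower A B (M'l i)]
  {Mt : κ → Type w} [∀ k, AddCommGroup (Mt k)] [∀ k, Module A (Mt k)]
  {M't : κ → Type w} [∀ k, AddCommGroup (M't k)] [∀ k, Module A (M't k)] [∀ k, Module B (M't k)]
  [∀ k, IsScalarTower A B (M't k)]

/-- The flat base change of an equalizer is the equalizer of the base changes. -/
theorem isBaseChange_of_cover (g : M →ₗ[A] M') (r : ∀ i, M →ₗ[A] Ml i) (r' : ∀ i, M' →ₗ[B] M'l i)
    (hinj : ∀ x, (∀ i, r i x = 0) → x = 0) (hinj' : ∀ x, (∀ i, r' i x = 0) → x = 0)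
    (q : ∀ i, Ml i →ₗ[A] M'l i) (hq : ∀ i, IsBaseChange B (q i))
    (qt : ∀ k, Mt k →ₗ[A] M't k) (hqt : ∀ k, Function.Injective ((qt k).liftBaseChange B))
    (hcomp : ∀ i x, r' i (g x) = q i (r i x))
    (d : ∀ k, (∀ i, Ml i) →ₗ[A] Mt k) (hex : ∀ y, (∀ k, d k y = 0) → ∃ x, ∀ i, r i x = y i)
    (hd : ∀ x k, d k (fun i => r i x) = 0)
    (D : ∀ k, (∀ i, M'l i) →ₗ[B] M't k) (hD : ∀ y k, D k (fun i => q i (y i)) = qt k (d k y))
    (hD0 : ∀ y k, D k (fun i => r' i y) = 0) : IsBaseChange B g := by
  classical
  have hr : Function.Injective (LinearMap.pi r) :=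
    (injective_iff_map_eq_zero _).2 fun y hy => hinj y fun l => congrFun hy l
  have key : ∀ z, (piMap' q).liftBaseChange B ((LinearMap.pi r).lTensor B z) =
      fun i => r' i (g.liftBaseChange B z) := by
    intro z
    induction z using TensorProduct.induction_on with
    | zero => funext i; simp
    | tmul c m => funext i; simp [hcomp]
    | add x y hx hy => funext i; simp only [map_add, hx, hy, Pi.add_apply]
  refine (isBaseChange_iff_bijective g).2 ⟨(injective_iff_map_eq_zero _).2 fun z hz => ?_, fun y => ?_⟩
  · have h1 : (LinearMap.pi r).lTensor B z = 0 := by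
      refine (piMap'_bijective q hq).1 ?_
      rw [key, hz, map_zero]
      funext i
      simp
    exact Module.Flat.lTensor_preserves_injective_linearMap _ hr (h1.trans (map_zero _).symm)
  · obtain ⟨w, hw⟩ := (piMap'_bijective q hq).2 fun i => r' i y
    let d' : (∀ i, Ml i) →ₗ[A] ∀ k, Mt k := LinearMap.pi d
    have hexact : Function.Exact (LinearMap.pi r) d' := fun z =>
      ⟨fun hz => (hex z fun k => congrFun hz k).imp fun x hx => funext hx,
        fun ⟨x, hx⟩ => funext fun k => hx ▸ hd x k⟩
    have h0 : d'.lTensor B w = 0 := by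
      have := Fintype.ofFinite κ
      refine (piRight A A B Mt).injective (funext fun k => hqt k ?_)
      rw [map_zero, Pi.zero_apply, map_zero, ← hD0 y k, ← hw]
      have : ∀ z, (qt k).liftBaseChange B (piRight A A B Mt (d'.lTensor B z) k) =
          D k ((piMap' q).liftBaseChange B z) := by
        intro z
        induction z using TensorProduct.induction_on with
        | zero => simp
        | tmul c m =>
          simp only [LinearMap.lTensor_tmul, piRight_apply, piRightHom_tmul, LinearMap.liftBaseChange_tmul, map_smul]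
          exact congrArg (c • ·) (hD m k).symm
        | add x y hx hy => simp only [map_add, Pi.add_apply, hx, hy]
      exact this w
    obtain ⟨x, rfl⟩ := ((Module.Flat.lTensor_exact B hexact) _).1 h0
    rw [key] at hw
    exact ⟨x, sub_eq_zero.1 (hinj' _ fun i => by rw [map_sub, congrFun hw i, sub_self])⟩

end Groth.Agent.QCPush13

end
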