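import Groth.Agent.QCPush13.Alg
import Groth.Agent.QCart13.Base

/-!
# Sections as modules through a map into the functions
-/

set_option autoImplicit false
set_option backward.isDefEq.respectTransparency false
set_option backward.isDefEq.respectTransparency.types false

noncomputable section

universe u

open CategoryTheory CategoryTheory.Limits AlgebraicGeometry Opposite AlgSp TensorProduct
open Groth.Agent.QCart13

namespace Groth.Agent.QCPush13

variable {S : Scheme.{u}} {Z : Sp S} (F : ModEt Z) {A B : Type u} [CommRing A] [CommRing B]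

/-- Sections, with the functions acting through a map. -/
def Sec (T : EtOver Z) (_ψ : B →+* Fn T) : Type (u + 1) := sectModEt F T

/-- A section. -/
def Sec.of {T : EtOver Z} (ψ : B →+* Fn T) (x : sectModEt F T) : Sec F T ψ := x

/-- The underlying section. -/
def Sec.val {T : EtOver Z} {ψ : B →+* Fn T} (x : Sec F T ψ) : sectModEt F T := x

instance (T : EtOver Z) (ψ : B →+* Fn T) : AddCommGroup (Sec F T ψ) :=
  inferInstanceAs (AddCommGroup (sectModEt F T))

instance moduleSec (T : EtOver Z) (ψ : B →+* Fn T) [Algebra A B] : Module A (Sec F T ψ) :=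
  letI : Module A (sectModEt F T) := Module.compHom _ (ψ.comp (algebraMap A B))
  inferInstanceAs (Module A (sectModEt F T))

variable {F}

theorem smul_val [Algebra A B] {T : EtOver Z} {ψ : B →+* Fn T} (a : A) (x : Sec F T ψ) :
    (a • x).val = ψ (algebraMap A B a) • x.val := rfl

instance towerSec [Algebra A B] (T : EtOver Z) (ψ : B →+* Fn T) : IsScalarTower A B (Sec F T ψ) :=
  IsScalarTower.of_algebraMap_smul fun _ _ => rfl

variable (F)

/-- Restriction of sections. -/
def qS [Algebra A B] {T U : EtOver Z} (φ : A →+* Fn T) (ψ : B →+* Fn U) (g : U ⟶ T)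
    (h : ∀ a, rmap g (φ a) = ψ (algebraMap A B a)) : Sec F T φ →ₗ[A] Sec F U ψ where
  toFun x := Sec.of F ψ (res F g x.val)
  map_add' x y := map_add (res F g) x.val y.val
  map_smul' a x := by
    change res F g (φ (algebraMap A A a) • x.val) = ψ (algebraMap A B a) • res F g x.val
    rw [res_smul]
    exact congrArg (fun c : Fn U => c • res F g x.val) (h a)

theorem qS_val [Algebra A B] {T U : EtOver Z} (φ : A →+* Fn T) (ψ : B →+* Fn U) (g : U ⟶ T)
    (h : ∀ a, rmap g (φ a) = ψ (algebraMap A B a)) (x : Sec F T φ) :
    (qS F φ ψ g h x).val = res F g x.val := rfl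

theorem val_injective {T : EtOver Z} {ψ : B →+* Fn T} : Function.Injective (Sec.val F (T := T) (ψ := ψ)) :=
  fun _ _ h => h

theorem isBaseChange_qS [Algebra A B] {T U : EtOver Z} (φ : A →+* Fn T) (ψ : B →+* Fn U) (g : U ⟶ T)
    (h : ∀ a, rmap g (φ a) = ψ (algebraMap A B a))
    (sq : IsPushout (CommRingCat.ofHom (algebraMap A B)) (CommRingCat.ofHom φ) (CommRingCat.ofHom ψ)
      (CommRingCat.ofHom (rmap g)))
    (hF : IsBC F g) : IsBaseChange B (qS F φ ψ g h) := by
  letI : Algebra A (Fn T) := φ.toAlgebra
  letI : Algebra B (Fn U) := ψ.toAlgebra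
  letI : Algebra A (Fn U) := (ψ.comp (algebraMap A B)).toAlgebra
  letI := algOf g
  letI := modOf F g
  haveI := towerOf F g
  letI : Module A (sectModEt F T) := Module.compHom _ φ
  letI : Module A (sectModEt F U) := Module.compHom _ (ψ.comp (algebraMap A B))
  letI : Module B (sectModEt F U) := Module.compHom _ ψ
  haveI : IsScalarTower A B (Fn U) := IsScalarTower.of_algebraMap_eq fun _ => rfl
  haveI : IsScalarTower A (Fn T) (Fn U) := IsScalarTower.of_algebraMap_eq fun a => (h a).symm
  haveI : IsScalarTower B (Fn U) (sectModEt F U) := IsScalarTower.of_algebraMap_smul fun _ _ => rfl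
  haveI : IsScalarTower A B (sectModEt F U) := IsScalarTower.of_algebraMap_smul fun _ _ => rfl
  haveI : IsScalarTower A (Fn T) (sectModEt F T) := IsScalarTower.of_algebraMap_smul fun _ _ => rfl
  haveI : IsScalarTower A (Fn T) (sectModEt F U) := IsScalarTower.of_algebraMap_smul fun a x => by
    change rmap g (φ a) • x = ψ (algebraMap A B a) • x
    rw [h]
  haveI : Algebra.IsPushout A B (Fn T) (Fn U) := CommRingCat.isPushout_iff_isPushout.1 sq
  exact isBaseChange_of_pushout (A := A) (B := Fn T) (C := B) (D := Fn U) (resL F g) hF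

end Groth.Agent.QCPush13

end
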